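import Groth.Agent.Lib.Helper5.Thick.FEtHom
import Mathlib.RingTheory.Etale.Basic

set_option autoImplicit false
universe u

open AlgebraicGeometry CategoryTheory Limits

namespace Groth.Agent.H5.Thick

/-- formally étale maps of affine schemes correspond to formally étale ring maps. -/
theorem isFormallyEtaleHom_SpecMap_iff {R A : CommRingCat.{u}} (φ : R ⟶ A) :
    MoreMor.IsFormallyEtaleHom (Spec.map φ) ↔ φ.hom.FormallyEtale := by
  letI : Algebra R A := φ.hom.toAlgebra
  constructor
  · intro hf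
    show Algebra.FormallyEtale R A
    rw [Algebra.FormallyEtale.iff_comp_bijective]
    intro B _ _ I hI
    constructor
    · intro g₁ g₂ h12
      obtain ⟨l, -, hlu⟩ := hf B I hI
        (Spec.map (CommRingCat.ofHom ((Ideal.Quotient.mkₐ R I).comp g₁).toRingHom))
        (Spec.map (CommRingCat.ofHom (algebraMap R B))) (by
          rw [← Spec.map_comp, ← Spec.map_comp]
          congr 1
          ext r
          exact (((Ideal.Quotient.mkₐ R I).comp g₁).commutes r).symm)
      have e1 := hlu (Spec.map (CommRingCat.ofHom g₁.toRingHom)) ⟨by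
        rw [← Spec.map_comp]; rfl, by
        rw [← Spec.map_comp]
        congr 1
        ext r
        exact g₁.commutes r⟩
      have e2 := hlu (Spec.map (CommRingCat.ofHom g₂.toRingHom)) ⟨by
        rw [← Spec.map_comp]
        congr 1
        ext x
        exact (DFunLike.congr_fun h12 x).symm, by
        rw [← Spec.map_comp]
        congr 1
        ext r
        exact g₂.commutes r⟩
      have e3 := Spec.map_injective (e1.trans e2.symm)
      ext x
      exact congrArg (fun f => f.hom x) e3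
    · intro g
      obtain ⟨l, ⟨hl1, hl2⟩, -⟩ := hf B I hI (Spec.map (CommRingCat.ofHom g.toRingHom))
        (Spec.map (CommRingCat.ofHom (algebraMap R B))) (by
          rw [← Spec.map_comp, ← Spec.map_comp]
          congr 1
          ext r
          exact (g.commutes r).symm)
      obtain ⟨g', rfl⟩ := Spec.map_surjective l
      have hg1 : g' ≫ CommRingCat.ofHom (Ideal.Quotient.mk I) = CommRingCat.ofHom g.toRingHom := by
        apply Spec.map_injective
        rw [Spec.map_comp]
        exact hl1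
      have hg2 : φ ≫ g' = CommRingCat.ofHom (algebraMap R B) := by
        apply Spec.map_injective
        rw [Spec.map_comp]
        exact hl2
      refine ⟨{ g'.hom with commutes' := fun r => congrArg (fun f => f.hom r) hg2 }, ?_⟩
      ext x
      exact congrArg (fun f => f.hom x) hg1
  · intro hφ
    have hφ' : Algebra.FormallyEtale R A := hφ
    intro B _ I hI a b w
    obtain ⟨α, rfl⟩ := Spec.map_surjective a
    obtain ⟨β, rfl⟩ := Spec.map_surjective b
    letI : Algebra R B := β.hom.toAlgebra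
    have hw : β ≫ CommRingCat.ofHom (Ideal.Quotient.mk I) = φ ≫ α := by
      apply Spec.map_injective
      rw [Spec.map_comp, Spec.map_comp]
      exact w
    let αₐ : A →ₐ[R] B ⧸ I :=
      { α.hom with commutes' := fun r => (congrArg (fun f => f.hom r) hw).symm }
    obtain ⟨g', hg'⟩ := (Algebra.FormallyEtale.comp_bijective R A I hI).2 αₐ
    refine ⟨Spec.map (CommRingCat.ofHom g'.toRingHom), ⟨?_, ?_⟩, ?_⟩
    · rw [← Spec.map_comp]
      congr 1
      ext x
      exact DFunLike.congr_fun hg' x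
    · rw [← Spec.map_comp]
      congr 1
      ext r
      exact g'.commutes r
    · rintro l ⟨hl1, hl2⟩
      obtain ⟨γ, rfl⟩ := Spec.map_surjective l
      have hγ1 : γ ≫ CommRingCat.ofHom (Ideal.Quotient.mk I) = α := by
        apply Spec.map_injective
        rw [Spec.map_comp]
        exact hl1
      have hγ2 : φ ≫ γ = β := by
        apply Spec.map_injective
        rw [Spec.map_comp]
        exact hl2
      let γₐ : A →ₐ[R] B :=
        { γ.hom with commutes' := fun r => congrArg (fun f => f.hom r) hγ2 }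
      have : γₐ = g' := by
        apply (Algebra.FormallyEtale.comp_bijective R A I hI).1
        rw [hg']
        ext x
        exact congrArg (fun f => f.hom x) hγ1
      congr 1
      ext x
      exact DFunLike.congr_fun this x

end Groth.Agent.H5.Thick

namespace Groth.Agent.H5.Thick

lemma isFirstOrderThickening_SpecMap_mk {B : Type u} [CommRing B] (I : Ideal B) (hI : I ^ 2 = ⊥) :
    MoreMor.IsFirstOrderThickening (Spec.map (CommRingCat.ofHom (Ideal.Quotient.mk I))) := by
  apply isFirstOrderThickening_SpecMap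
  refine ⟨Ideal.Quotient.mk_surjective, fun x y hx hy => ?_⟩
  have hx' : x ∈ I := Ideal.Quotient.eq_zero_iff_mem.mp hx
  have hy' : y ∈ I := Ideal.Quotient.eq_zero_iff_mem.mp hy
  have : x * y ∈ I ^ 2 := by rw [pow_two]; exact Ideal.mul_mem_mul hx' hy'
  rwa [hI] at this

/-- restriction of a formally étale morphism to opens. -/
theorem isFormallyEtaleHom_resLE {X Y : Scheme.{u}} (f : X ⟶ Y)
    (hf : MoreMor.IsFormallyEtaleHom f) (U : X.Opens) (V : Y.Opens) (e : U ≤ f ⁻¹ᵁ V) :
    MoreMor.IsFormallyEtaleHom (f.resLE V U e) := by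
  intro B _ I hI a b w
  have ht := isFirstOrderThickening_SpecMap_mk I hI
  obtain ⟨l, ⟨hl1, hl2⟩, hlu⟩ := hf B I hI (a ≫ U.ι) (b ≫ V.ι) (by
    rw [← Category.assoc, w, Category.assoc, Scheme.Hom.resLE_comp_ι, Category.assoc])
  have hrange : Set.range l ⊆ Set.range U.ι := by
    rw [Scheme.Opens.range_ι]
    rintro _ ⟨p, rfl⟩
    obtain ⟨p', rfl⟩ := ht.1.2.surj p
    have h1 : l (Spec.map (CommRingCat.ofHom (Ideal.Quotient.mk I)) p') = U.ι (a p') := by
      have := congrArg (fun φ : Spec (.of (B ⧸ I)) ⟶ X => φ p') hl1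
      simpa using this
    rw [h1]
    exact (a p').2
  refine ⟨IsOpenImmersion.lift U.ι l hrange, ⟨?_, ?_⟩, ?_⟩
  · rw [← cancel_mono U.ι, Category.assoc, IsOpenImmersion.lift_fac, hl1]
  · rw [← cancel_mono V.ι, Category.assoc, Scheme.Hom.resLE_comp_ι,
      IsOpenImmersion.lift_fac_assoc, hl2]
  · rintro l' ⟨h1, h2⟩
    rw [← cancel_mono U.ι, IsOpenImmersion.lift_fac]
    apply hlu
    constructor
    · rw [← Category.assoc, h1]
    · rw [Category.assoc, ← Scheme.Hom.resLE_comp_ι f e, ← Category.assoc, h2]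

/-- transport of formal étaleness along isomorphisms. -/
theorem isFormallyEtaleHom_of_iso {X Y X₁ Y₁ : Scheme.{u}} {f : X ⟶ Y}
    (hf : MoreMor.IsFormallyEtaleHom f) (eX : X₁ ≅ X) (eY : Y₁ ≅ Y) {f₁ : X₁ ⟶ Y₁}
    (wf : f₁ ≫ eY.hom = eX.hom ≫ f) : MoreMor.IsFormallyEtaleHom f₁ := by
  intro B _ I hI a b w
  obtain ⟨l, ⟨hl1, hl2⟩, hlu⟩ := hf B I hI (a ≫ eX.hom) (b ≫ eY.hom) (by
    rw [← Category.assoc, w, Category.assoc, wf, Category.assoc])
  refine ⟨l ≫ eX.inv, ⟨?_, ?_⟩, ?_⟩
  · rw [← Category.assoc, hl1, Category.assoc, Iso.hom_inv_id, Category.comp_id]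
  · rw [← cancel_mono eY.hom, Category.assoc, Category.assoc, wf, Iso.inv_hom_id_assoc, hl2]
  · rintro l' ⟨h1, h2⟩
    rw [← cancel_mono eX.hom, Category.assoc, Iso.inv_hom_id, Category.comp_id]
    apply hlu
    constructor
    · rw [← Category.assoc, h1]
    · rw [Category.assoc, ← wf, ← Category.assoc, h2]

/-- the forward direction: a formally étale morphism is affine-locally formally étale. -/
theorem formallyEtale_appLE_of_isFormallyEtaleHom {X Y : Scheme.{u}} (f : X ⟶ Y)
    (hf : MoreMor.IsFormallyEtaleHom f) (U : X.Opens) (V : Y.Opens) (hU : IsAffineOpen U)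
    (hV : IsAffineOpen V) (e : U ≤ f ⁻¹ᵁ V) : (f.appLE V U e).hom.FormallyEtale := by
  rw [← isFormallyEtaleHom_SpecMap_iff]
  exact isFormallyEtaleHom_of_iso (isFormallyEtaleHom_resLE f hf U V e) hU.isoSpec.symm
    hV.isoSpec.symm (SpecMap_appLE_isoSpec_inv f hV hU e)

/-- the converse for the restriction to affine opens. -/
theorem isFormallyEtaleHom_resLE_of_formallyEtale_appLE {X Y : Scheme.{u}} (f : X ⟶ Y)
    (U : X.Opens) (V : Y.Opens) (hU : IsAffineOpen U)
    (hV : IsAffineOpen V) (e : U ≤ f ⁻¹ᵁ V) (h : (f.appLE V U e).hom.FormallyEtale) :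
    MoreMor.IsFormallyEtaleHom (f.resLE V U e) := by
  rw [← isFormallyEtaleHom_SpecMap_iff] at h
  refine isFormallyEtaleHom_of_iso h hU.isoSpec hV.isoSpec ?_
  have := SpecMap_appLE_isoSpec_inv f hV hU e
  rw [← cancel_epi hU.isoSpec.inv, ← Category.assoc, ← this, Category.assoc, Iso.inv_hom_id,
    Category.comp_id, Iso.inv_hom_id_assoc]

end Groth.Agent.H5.Thick

namespace Groth.Agent.H5.Thick

theorem isFormallyEtaleHom_of_formallyEtale_appLE {X Y : Scheme.{u}} (f : X ⟶ Y)
    (H : ∀ (U : X.Opens) (V : Y.Opens) (_ : IsAffineOpen U) (_ : IsAffineOpen V)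
      (e : U ≤ f ⁻¹ᵁ V), (f.appLE V U e).hom.FormallyEtale) :
    MoreMor.IsFormallyEtaleHom f := by
  haveI : FormallyUnramified f := ⟨fun {V} hV {U} hU e => by
    have h1 := H U V hU hV e
    letI := (f.appLE V U e).hom.toAlgebra
    have h2 : Algebra.FormallyEtale Γ(Y, V) Γ(X, U) := h1
    exact (inferInstance : Algebra.FormallyUnramified Γ(Y, V) Γ(X, U))⟩
  intro B _ I hI a b w
  have ht := isFirstOrderThickening_SpecMap_mk I hI
  haveI : IsClosedImmersion (Spec.map (CommRingCat.ofHom (Ideal.Quotient.mk I))) := ht.1.1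
  generalize Spec.map (CommRingCat.ofHom (Ideal.Quotient.mk I)) = t at *
  have hpt : ∀ p : Spec (.of B), ∃ (W : (Spec (.of B)).Opens) (U : X.Opens) (V : Y.Opens),
      p ∈ W ∧ IsAffineOpen U ∧ IsAffineOpen V ∧ U ≤ f ⁻¹ᵁ V ∧ W ≤ b ⁻¹ᵁ V ∧
        t ⁻¹ᵁ W ≤ a ⁻¹ᵁ U := by
    intro p
    obtain ⟨p', rfl⟩ := ht.1.2.surj p
    have hfx : f (a p') = b (t p') := by
      have := congrArg (fun φ : Spec (.of (B ⧸ I)) ⟶ Y => φ p') w
      simpa using this.symm
    obtain ⟨_, ⟨V, hV, rfl⟩, hyV, -⟩ :=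
      Y.isBasis_affineOpens.exists_subset_of_mem_open (Set.mem_univ (b (t p'))) isOpen_univ
    have hx : a p' ∈ f ⁻¹ᵁ V := by
      show f (a p') ∈ V
      rw [hfx]; exact hyV
    obtain ⟨_, ⟨U, hU, rfl⟩, hxU, hUV⟩ :=
      X.isBasis_affineOpens.exists_subset_of_mem_open hx (f ⁻¹ᵁ V).isOpen
    let O : (Spec (.of B)).Opens :=
      ⟨(t '' ((a ⁻¹ᵁ U : Set _)ᶜ))ᶜ,
        (t.isClosedEmbedding.isClosedMap _ (a ⁻¹ᵁ U).isOpen.isClosed_compl).isOpen_compl⟩
    have hpO : t p' ∈ O := by
      rintro ⟨q', hq', hq⟩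
      have := t.isClosedEmbedding.injective hq
      subst this
      exact hq' hxU
    obtain ⟨_, ⟨W, hW, rfl⟩, hpW, hWsub⟩ :=
      (Spec (.of B)).isBasis_affineOpens.exists_subset_of_mem_open
        (show t p' ∈ (b ⁻¹ᵁ V ⊓ O : (Spec (.of B)).Opens) from ⟨hyV, hpO⟩)
        (b ⁻¹ᵁ V ⊓ O).isOpen
    refine ⟨W, U, V, hpW, hU, hV, hUV, fun q hq => (hWsub hq).1, fun q' hq' => ?_⟩
    have h1 : t q' ∈ O := (hWsub hq').2
    by_contra hcon
    exact h1 ⟨q', hcon, rfl⟩
  choose W U V hpW hU hV hUV hWV hWU using hpt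
  let 𝒰 : (Spec (.of B)).OpenCover :=
    { I₀ := Spec (.of B)
      X := fun p => (W p)
      f := fun p => (W p).ι
      mem₀ := by
        rw [Scheme.presieve₀_mem_precoverage_iff]
        refine ⟨fun p ↦ ⟨p, by simpa using hpW p⟩, inferInstance⟩ }
  have := existsUnique_lift_of_local_lifts (i := 𝟙 X) (h' := f) t ht a b 𝒰 ?_
  · simpa using this
  · intro p
    show ∃ l₀ : ((W p : (Spec (.of B)).Opens) : Scheme) ⟶ X,
      pullback.snd t (W p).ι ≫ l₀ = (pullback.fst t (W p).ι ≫ a) ≫ 𝟙 X ∧ l₀ ≫ f = (W p).ι ≫ b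
    have hfUV := isFormallyEtaleHom_resLE_of_formallyEtale_appLE f (U p) (V p) (hU p) (hV p)
      (hUV p) (H (U p) (V p) (hU p) (hV p) (hUV p))
    have htW : MoreMor.IsFirstOrderThickening (pullback.snd t (W p).ι) :=
      isFirstOrderThickening_of_isPullback (IsPullback.of_hasPullback t (W p).ι).flip ht
    have hra : Set.range (pullback.fst t (W p).ι ≫ a) ⊆ Set.range (U p).ι := by
      rw [Scheme.Opens.range_ι]
      rintro _ ⟨z, rfl⟩
      have hz : t (pullback.fst t (W p).ι z) ∈ W p := by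
        have := congrArg (fun φ : pullback t (W p).ι ⟶ Spec (.of B) => φ z)
          (pullback.condition (f := t) (g := (W p).ι))
        have h3 : t (pullback.fst t (W p).ι z) = (W p).ι (pullback.snd t (W p).ι z) := by
          simpa using this
        rw [h3]
        exact (pullback.snd t (W p).ι z).2
      exact hWU p hz
    have hrb : Set.range ((W p).ι ≫ b) ⊆ Set.range (V p).ι := by
      rw [Scheme.Opens.range_ι]
      rintro _ ⟨z, rfl⟩
      exact hWV p z.2
    obtain ⟨lW, ⟨h1, h2⟩, -⟩ := existsUnique_lift_of_isFormallyEtaleHom _ hfUV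
      (pullback.snd t (W p).ι) htW (IsOpenImmersion.lift (U p).ι _ hra)
      (IsOpenImmersion.lift (V p).ι _ hrb) (by
        rw [← cancel_mono (V p).ι, Category.assoc, Category.assoc, IsOpenImmersion.lift_fac,
          Scheme.Hom.resLE_comp_ι, IsOpenImmersion.lift_fac_assoc, ← Category.assoc,
          ← pullback.condition, Category.assoc, w, Category.assoc])
    refine ⟨lW ≫ (U p).ι, ?_, ?_⟩
    · rw [← Category.assoc, h1, IsOpenImmersion.lift_fac, Category.comp_id]
    · rw [Category.assoc, ← Scheme.Hom.resLE_comp_ι f (hUV p), ← Category.assoc, h2,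
        IsOpenImmersion.lift_fac]

end Groth.Agent.H5.Thick
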