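import Groth.Agent.Lib.Helper5.Thick.UnivThickUniq
import Mathlib.AlgebraicGeometry.Cover.Directed
import Mathlib.AlgebraicGeometry.Gluing

set_option autoImplicit false
universe u

open AlgebraicGeometry CategoryTheory Limits

namespace Groth.Agent.H5.Thick

/-- checking first order thickenings on an open cover of the target. -/
theorem isFirstOrderThickening_of_openCover {Z Z' : Scheme.{u}} (i : Z ⟶ Z') (𝒱 : Z'.OpenCover)
    (W : 𝒱.I₀ → Scheme.{u}) (p : ∀ k, W k ⟶ Z) (q : ∀ k, W k ⟶ 𝒱.X k)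
    (hsq : ∀ k, IsPullback (q k) (p k) (𝒱.f k) i)
    (hq : ∀ k, MoreMor.IsFirstOrderThickening (q k)) : MoreMor.IsFirstOrderThickening i := by
  rw [isFirstOrderThickening_iff]
  have key : ∀ (P : MorphismProperty Scheme.{u}) [P.RespectsIso] (k : 𝒱.I₀), P (q k) →
      P (𝒱.pullbackHom i k) := by
    intro P _ k hk
    have h1 : (hsq k).flip.isoPullback.hom ≫ pullback.snd i (𝒱.f k) = q k :=
      (hsq k).flip.isoPullback_hom_snd
    rw [← h1] at hk
    exact (MorphismProperty.cancel_left_of_respectsIso P _ _).mp hk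
  constructor
  · rw [IsZariskiLocalAtTarget.iff_of_openCover (P := FOT) 𝒱]
    intro k
    exact key FOT k ((isFirstOrderThickening_iff _).mp (hq k)).1
  · rw [IsZariskiLocalAtTarget.iff_of_openCover (P := @Surjective) 𝒱]
    intro k
    exact key @Surjective k ((isFirstOrderThickening_iff _).mp (hq k)).2

namespace UTGlue

variable {Z X : Scheme.{u}} (h : Z ⟶ X)

/-- affine opens of `Z` mapping into an affine open of `X`. -/
abbrev J : Type u :=
  {V : Z.Opens // IsAffineOpen V ∧ ∃ U : X.Opens, IsAffineOpen U ∧ V ≤ h ⁻¹ᵁ U}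

lemma exists_mem_J_le {z : Z} {O : Z.Opens} (hz : z ∈ O) : ∃ V : J h, z ∈ V.1 ∧ V.1 ≤ O := by
  obtain ⟨U, hU, hzU, -⟩ := exists_isAffineOpen_mem_and_subset (x := h z) (U := ⊤) trivial
  obtain ⟨V, hV, hzV, hVO⟩ := exists_isAffineOpen_mem_and_subset (x := z) (U := O ⊓ h ⁻¹ᵁ U)
    ⟨hz, hzU⟩
  exact ⟨⟨V, hV, U, hU, fun x hx => (hVO hx).2⟩, hzV, fun x hx => (hVO hx).1⟩

/-- a universal first order thickening of an open of `Z` over `X`. -/
structure LocalUT (V : Z.Opens) where
  T : Scheme.{u}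
  i : (V : Scheme.{u}) ⟶ T
  h' : T ⟶ X
  isUT : OmegaSh.IsUnivThickening (V.ι ≫ h) i h'

variable [FormallyUnramified h]

lemma exists_localUT (V : J h) : Nonempty (LocalUT h V.1) := by
  obtain ⟨hV, U, hU, hVU⟩ := V.2
  haveI : IsAffine (V.1 : Scheme.{u}) := hV
  haveI : FormallyUnramified (V.1.ι ≫ h) :=
    IsZariskiLocalAtSource.comp (P := @FormallyUnramified) inferInstance V.1.ι
  obtain ⟨T, i, h', hu⟩ := exists_isUnivThickening_of_isAffine (V.1.ι ≫ h) U hU (by
    rintro _ ⟨x, rfl⟩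
    exact hVU x.2)
  exact ⟨⟨T, i, h', hu⟩⟩

/-- a choice of local universal thickenings. -/
noncomputable def localUT (V : J h) : LocalUT h V.1 := (exists_localUT h V).some

lemma existsUnique_trans {V₁ V₂ : J h} (hle : V₁ ≤ V₂) :
    ∃! f : (localUT h V₁).T ⟶ (localUT h V₂).T,
      (localUT h V₁).i ≫ f = Z.homOfLE hle ≫ (localUT h V₂).i ∧
        f ≫ (localUT h V₂).h' = (localUT h V₁).h' :=
  (localUT h V₂).isUT.2.2 _ _ (localUT h V₁).i (localUT h V₁).h' (Z.homOfLE hle)
    (localUT h V₁).isUT.1 (by rw [(localUT h V₁).isUT.2.1, Scheme.homOfLE_ι_assoc])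

/-- the transition maps. -/
noncomputable def trans {V₁ V₂ : J h} (hle : V₁ ≤ V₂) : (localUT h V₁).T ⟶ (localUT h V₂).T :=
  (existsUnique_trans h hle).choose

lemma i_trans {V₁ V₂ : J h} (hle : V₁ ≤ V₂) :
    (localUT h V₁).i ≫ trans h hle = Z.homOfLE hle ≫ (localUT h V₂).i :=
  (existsUnique_trans h hle).choose_spec.1.1

lemma trans_h' {V₁ V₂ : J h} (hle : V₁ ≤ V₂) :
    trans h hle ≫ (localUT h V₂).h' = (localUT h V₁).h' :=
  (existsUnique_trans h hle).choose_spec.1.2

lemma trans_unique {V₁ V₂ : J h} (hle : V₁ ≤ V₂) (f : (localUT h V₁).T ⟶ (localUT h V₂).T)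
    (h1 : (localUT h V₁).i ≫ f = Z.homOfLE hle ≫ (localUT h V₂).i)
    (h2 : f ≫ (localUT h V₂).h' = (localUT h V₁).h') : f = trans h hle :=
  (existsUnique_trans h hle).choose_spec.2 f ⟨h1, h2⟩

/-- the diagram of local universal thickenings. -/
noncomputable def F : J h ⥤ Scheme.{u} where
  obj V := (localUT h V).T
  map f := trans h (leOfHom f)
  map_id V := by
    symm
    apply trans_unique
    · rw [Category.comp_id]
      show _ = Z.homOfLE le_rfl ≫ _
      rw [Scheme.homOfLE_rfl, Category.id_comp]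
    · rw [Category.id_comp]
  map_comp {V₁ V₂ V₃} f g := by
    symm
    apply trans_unique
    · rw [← Category.assoc, i_trans, Category.assoc, i_trans, ← Category.assoc,
        Scheme.homOfLE_homOfLE]
    · rw [Category.assoc, trans_h', trans_h']

instance {V₁ V₂ : J h} (f : V₁ ⟶ V₂) : IsOpenImmersion ((F h).map f) :=
  isOpenImmersion_of_isUnivThickening (localUT h V₁).isUT (localUT h V₂).isUT
    (Z.homOfLE (leOfHom f)) (by rw [Scheme.homOfLE_ι_assoc]) _ (i_trans h _) (trans_h' h _)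

lemma i_surjective (V : J h) (x : (localUT h V).T) : ∃ z : (V.1 : Scheme.{u}),
    (localUT h V).i z = x :=
  (localUT h V).isUT.1.1.2.surj x

lemma i_injective (V : J h) : Function.Injective (localUT h V).i := by
  haveI : IsClosedImmersion (localUT h V).i := (localUT h V).isUT.1.1.1
  exact (localUT h V).i.isClosedEmbedding.injective

lemma F_map_i_apply {V₁ V₂ : J h} (f : V₁ ⟶ V₂) (z : (V₁.1 : Scheme.{u})) :
    (F h).map f ((localUT h V₁).i z) = (localUT h V₂).i (Z.homOfLE (leOfHom f) z) := by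
  show (trans h (leOfHom f)) ((localUT h V₁).i z) = _
  rw [← Scheme.Hom.comp_apply, i_trans, Scheme.Hom.comp_apply]


lemma homOfLE_val {U V : Z.Opens} (e : U ≤ V) (x : (U : Scheme.{u})) :
    (Z.homOfLE e x).1 = x.1 := by
  simp

instance : ((F h) ⋙ Scheme.forget).IsLocallyDirected where
  cond {Vi Vj Vk} fi fj xi xj heq := by
    obtain ⟨zi, rfl⟩ := i_surjective h Vi xi
    obtain ⟨zj, rfl⟩ := i_surjective h Vj xj
    have heq' : (F h).map fi ((localUT h Vi).i zi) = (F h).map fj ((localUT h Vj).i zj) := heq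
    rw [F_map_i_apply, F_map_i_apply] at heq'
    have h3 := i_injective h Vk heq'
    have h4 : zi.1 = zj.1 := by
      have := congrArg Subtype.val h3
      rwa [homOfLE_val, homOfLE_val] at this
    obtain ⟨Vl, hzl, hle⟩ := exists_mem_J_le h (z := zi.1) (O := Vi.1 ⊓ Vj.1)
      ⟨zi.2, h4 ▸ zj.2⟩
    have hli : Vl ≤ Vi := fun x hx => (hle hx).1
    have hlj : Vl ≤ Vj := fun x hx => (hle hx).2
    refine ⟨Vl, homOfLE hli, homOfLE hlj, (localUT h Vl).i ⟨zi.1, hzl⟩, ?_, ?_⟩
    · show (F h).map (homOfLE hli) ((localUT h Vl).i ⟨zi.1, hzl⟩) = _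
      rw [F_map_i_apply]
      congr 1
      apply Subtype.ext
      rw [homOfLE_val]
    · show (F h).map (homOfLE hlj) ((localUT h Vl).i ⟨zi.1, hzl⟩) = _
      rw [F_map_i_apply]
      congr 1
      apply Subtype.ext
      rw [homOfLE_val]
      exact h4

/-- the glued thickening. -/
noncomputable abbrev Z' : Scheme.{u} := colimit (F h)

/-- the structure map of the glued thickening. -/
noncomputable def hGlue : Z' h ⟶ X :=
  colimit.desc (F h)
    { pt := X
      ι :=
        { app := fun V => (localUT h V).h'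
          naturality := fun V₁ V₂ f => by
            dsimp
            rw [Category.comp_id]
            exact trans_h' h _ } }

lemma ι_hGlue (V : J h) : colimit.ι (F h) V ≫ hGlue h = (localUT h V).h' :=
  colimit.ι_desc _ _

/-- the cover of `Z` by the opens in `J`. -/
@[simps I₀ X f]
noncomputable def covZ : Z.OpenCover where
  I₀ := J h
  X V := V.1
  f V := V.1.ι
  mem₀ := by
    rw [Scheme.presieve₀_mem_precoverage_iff]
    refine ⟨fun x ↦ ?_, inferInstance⟩
    obtain ⟨V, hxV, -⟩ := exists_mem_J_le h (z := x) (O := ⊤) trivial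
    exact ⟨V, ⟨x, hxV⟩, rfl⟩

instance : Preorder (covZ h).I₀ := inferInstanceAs (Preorder (J h))

noncomputable instance : Scheme.Cover.LocallyDirected (covZ h) :=
  .ofIsBasisOpensRange (by
    intro V₁ V₂
    show V₁ ≤ V₂ ↔ (V₁.1.ι).opensRange ≤ (V₂.1.ι).opensRange
    rw [Scheme.Opens.opensRange_ι, Scheme.Opens.opensRange_ι]
    rfl) (by
    rw [TopologicalSpace.Opens.isBasis_iff_nbhd]
    intro O z hz
    obtain ⟨V, hzV, hVO⟩ := exists_mem_J_le h hz
    exact ⟨V.1, ⟨V, Scheme.Opens.opensRange_ι _⟩, hzV, hVO⟩)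


lemma iGlue_compat {V₁ V₂ : J h} (f : V₁ ⟶ V₂) :
    Z.homOfLE (leOfHom f) ≫ (localUT h V₂).i ≫ colimit.ι (F h) V₂ =
      (localUT h V₁).i ≫ colimit.ι (F h) V₁ := by
  have h2 : (F h).map f ≫ colimit.ι (F h) V₂ = colimit.ι (F h) V₁ := colimit.w (F h) f
  rw [← Category.assoc, ← i_trans, Category.assoc]
  congr 1

/-- the glued thickening map. -/
noncomputable def iGlue : Z ⟶ Z' h :=
  (covZ h).glueMorphismsOfLocallyDirected
    (fun V => (localUT h V).i ≫ colimit.ι (F h) V) (fun {V₁ V₂} f => iGlue_compat h f)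

lemma ι_iGlue (V : J h) : V.1.ι ≫ iGlue h = (localUT h V).i ≫ colimit.ι (F h) V :=
  (covZ h).map_glueMorphismsOfLocallyDirected _ _ V

lemma iGlue_hGlue : iGlue h ≫ hGlue h = h := by
  refine Scheme.Cover.hom_ext (covZ h) _ _ (fun (V : J h) => ?_)
  show V.1.ι ≫ _ = V.1.ι ≫ _
  rw [← Category.assoc, ι_iGlue, Category.assoc]
  exact (congrArg ((localUT h V).i ≫ ·) (ι_hGlue h V)).trans (localUT h V).isUT.2.1

lemma iGlue_apply (V : J h) (z : (V.1 : Scheme.{u})) :
    iGlue h z.1 = colimit.ι (F h) V ((localUT h V).i z) := by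
  have h1 := congrArg (fun φ : (V.1 : Scheme.{u}) ⟶ Z' h => φ z) (ι_iGlue h V)
  exact h1

lemma iGlue_preimage (V : J h) : iGlue h ⁻¹ᵁ (colimit.ι (F h) V).opensRange = V.1 := by
  ext z
  constructor
  · rintro ⟨y, hy⟩
    obtain ⟨V₂, hzV₂, -⟩ := exists_mem_J_le h (z := z) (O := ⊤) trivial
    have h1 := iGlue_apply h V₂ ⟨z, hzV₂⟩
    have hy' : colimit.ι (F h) V y = colimit.ι (F h) V₂ ((localUT h V₂).i ⟨z, hzV₂⟩) :=
      hy.trans h1
    obtain ⟨V₃, f₁, f₂, x, hx1, hx2⟩ := (Scheme.IsLocallyDirected.ι_eq_ι_iff (F h)).mp hy'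
    obtain ⟨z₃, rfl⟩ := i_surjective h V₃ x
    rw [F_map_i_apply] at hx2
    have h3 := i_injective h V₂ hx2
    have hz3 : z₃.1 = z := by
      have := congrArg Subtype.val h3
      rwa [homOfLE_val] at this
    rw [← hz3]
    exact leOfHom f₁ z₃.2
  · intro hz
    exact ⟨(localUT h V).i ⟨z, hz⟩, (iGlue_apply h V ⟨z, hz⟩).symm⟩

lemma isFirstOrderThickening_iGlue : MoreMor.IsFirstOrderThickening (iGlue h) := by
  refine isFirstOrderThickening_of_openCover (iGlue h) (Scheme.IsLocallyDirected.openCover (F h))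
    (fun V => ((V : J h).1 : Scheme.{u})) (fun V => (V : J h).1.ι) (fun V => (localUT h V).i)
    (fun V => ?_) (fun V => (localUT h V).isUT.1)
  exact IsOpenImmersion.isPullback _ _ _ _ (ι_iGlue h V) (by
    rw [Scheme.Opens.opensRange_ι]
    exact iGlue_preimage h V)

instance : FormallyUnramified (hGlue h) := by
  rw [IsZariskiLocalAtSource.iff_of_openCover (P := @FormallyUnramified)
    (Scheme.IsLocallyDirected.openCover (F h))]
  intro V
  show FormallyUnramified (colimit.ι (F h) V ≫ hGlue h)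
  rw [ι_hGlue]
  exact formallyUnramified_of_isUnivThickening _ _ _ (localUT h V).isUT

/-- the glued thickening is universal. -/
theorem isUnivThickening_glue : OmegaSh.IsUnivThickening h (iGlue h) (hGlue h) := by
  refine ⟨isFirstOrderThickening_iGlue h, iGlue_hGlue h, fun T T' t b a ht hw => ?_⟩
  haveI : IsClosedImmersion t := ht.1.1
  choose W hW using fun V : J h => exists_opens_preimage_eq t (a ⁻¹ᵁ V.1)
  have hcov : TopologicalSpace.IsOpenCover W := by
    rw [TopologicalSpace.IsOpenCover, eq_top_iff]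
    intro x' _
    obtain ⟨x, rfl⟩ := ht.1.2.surj x'
    obtain ⟨V, hxV, -⟩ := exists_mem_J_le h (z := a x) (O := ⊤) trivial
    rw [TopologicalSpace.Opens.mem_iSup]
    refine ⟨V, ?_⟩
    have : x ∈ t ⁻¹ᵁ W V := by rw [hW]; exact hxV
    exact this
  refine existsUnique_lift_of_local_lifts t ht a b (T'.openCoverOfIsOpenCover W hcov)
    (fun (V : J h) => ?_)
  show ∃ l₀ : (W V : Scheme.{u}) ⟶ Z' h,
    pullback.snd t (W V).ι ≫ l₀ = (pullback.fst t (W V).ι ≫ a) ≫ iGlue h ∧
      l₀ ≫ hGlue h = (W V).ι ≫ b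
  have htP : MoreMor.IsFirstOrderThickening (pullback.snd t (W V).ι) :=
    isFirstOrderThickening_of_isPullback (IsPullback.of_hasPullback t (W V).ι).flip ht
  have hr : Set.range (pullback.fst t (W V).ι ≫ a) ⊆ Set.range V.1.ι := by
    rw [Scheme.Opens.range_ι]
    rintro _ ⟨p, rfl⟩
    have h1 : t (pullback.fst t (W V).ι p) ∈ W V := by
      rw [← Scheme.Hom.comp_apply, pullback.condition, Scheme.Hom.comp_apply]
      exact (pullback.snd t (W V).ι p).2
    have h2 : pullback.fst t (W V).ι p ∈ t ⁻¹ᵁ W V := h1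
    rw [hW] at h2
    exact h2
  obtain ⟨l, hl1, hl2⟩ := ((localUT h V).isUT.2.2 _ _ (pullback.snd t (W V).ι) ((W V).ι ≫ b)
    (IsOpenImmersion.lift V.1.ι _ hr) htP (by
      rw [← Category.assoc, ← pullback.condition, Category.assoc, hw, ← Category.assoc,
        IsOpenImmersion.lift_fac_assoc])).exists
  refine ⟨l ≫ colimit.ι (F h) V, ?_, ?_⟩
  · rw [← Category.assoc, hl1, Category.assoc, ← ι_iGlue, IsOpenImmersion.lift_fac_assoc]
  · rw [Category.assoc]
    exact (congrArg (l ≫ ·) (ι_hGlue h V)).trans hl2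

end UTGlue

/-- existence of universal first order thickenings. -/
theorem exists_isUnivThickening {Z X : Scheme.{u}} (h : Z ⟶ X) [FormallyUnramified h] :
    ∃ (Z' : Scheme.{u}) (i : Z ⟶ Z') (h' : Z' ⟶ X), OmegaSh.IsUnivThickening h i h' :=
  ⟨_, _, _, UTGlue.isUnivThickening_glue h⟩

end Groth.Agent.H5.Thick
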