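import Groth.Agent.Lib.Helper5.Thick.SqZeroSurj
import Groth.Prelude.Def_MoreMor
import Mathlib.AlgebraicGeometry.Morphisms.ClosedImmersion
import Mathlib.AlgebraicGeometry.Morphisms.AffineAnd
import Mathlib.AlgebraicGeometry.Morphisms.UnderlyingMap

set_option autoImplicit false
universe u

open AlgebraicGeometry CategoryTheory Limits

namespace Groth.Agent.H5.Thick

/-- closed immersions with square zero ideal, as an `affineAnd` property. -/
def FOT : MorphismProperty Scheme.{u} :=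
  fun _ Y i => IsAffineHom i ∧ ∀ U : Y.Opens, IsAffineOpen U → SqZeroSurj (i.app U).hom

instance hasAffineProperty_FOT : HasAffineProperty FOT.{u} (affineAnd @SqZeroSurj) :=
  (HasAffineProperty.affineAnd_iff FOT sqZeroSurj_respectsIso
    sqZeroSurj_localizationAwayPreserves sqZeroSurj_ofLocalizationSpan).mpr (fun _ => Iff.rfl)

instance isStableUnderBaseChange_FOT : FOT.{u}.IsStableUnderBaseChange :=
  HasAffineProperty.affineAnd_isStableUnderBaseChange hasAffineProperty_FOT
    sqZeroSurj_respectsIso sqZeroSurj_isStableUnderBaseChange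

theorem isFirstOrderThickening_iff {X Y : Scheme.{u}} (i : X ⟶ Y) :
    MoreMor.IsFirstOrderThickening i ↔ FOT i ∧ Surjective i := by
  constructor
  · rintro ⟨⟨hcl, hs⟩, hk⟩
    refine ⟨⟨inferInstance, fun U hU => ⟨i.app_surjective U hU, fun x y hx hy => ?_⟩⟩, hs⟩
    have h1 : x ∈ i.ker.ideal ⟨U, hU⟩ := by rw [Scheme.Hom.ker_apply]; exact hx
    have h2 : y ∈ i.ker.ideal ⟨U, hU⟩ := by rw [Scheme.Hom.ker_apply]; exact hy
    have h3 : x * y ∈ (i.ker * i.ker).ideal ⟨U, hU⟩ := by
      rw [Scheme.IdealSheafData.ideal_mul]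
      exact Ideal.mul_mem_mul h1 h2
    rw [hk] at h3
    exact h3
  · rintro ⟨⟨haff, hQ⟩, hs⟩
    have hcl : IsClosedImmersion i :=
      isClosedImmersion_iff_isAffineHom.mpr ⟨haff, fun U hU => (hQ U hU).1⟩
    refine ⟨⟨hcl, hs⟩, ?_⟩
    ext U : 2
    rw [Scheme.IdealSheafData.ideal_mul, Scheme.IdealSheafData.ideal_bot, Pi.mul_apply,
      Pi.bot_apply, ← le_bot_iff, Ideal.mul_le]
    intro x hx y hy
    rw [Scheme.Hom.ker_apply] at hx hy
    exact (hQ U.1 U.2).2 x y hx hy

theorem isFirstOrderThickening_of_isPullback {X Y X' Y' : Scheme.{u}} {i' : X' ⟶ Y'}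
    {p' : X' ⟶ X} {p : Y' ⟶ Y} {i : X ⟶ Y} (hsq : IsPullback i' p' p i)
    (hi : MoreMor.IsFirstOrderThickening i) : MoreMor.IsFirstOrderThickening i' := by
  rw [isFirstOrderThickening_iff] at hi ⊢
  exact ⟨MorphismProperty.of_isPullback hsq.flip hi.1,
    MorphismProperty.of_isPullback (P := @Surjective) hsq.flip hi.2⟩

end Groth.Agent.H5.Thick
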