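import Groth.Agent.Lib.Helper5.Thick.GlueLift

set_option autoImplicit false
universe u

open AlgebraicGeometry CategoryTheory Limits

namespace Groth.Agent.H5.Thick

/-- uniqueness of lifts against standard affine thickenings implies formal unramifiedness. -/
theorem formallyUnramified_of_affine_unique {X S : Scheme.{u}} (f : X ⟶ S)
    (H : ∀ (A : Type u) [CommRing A] (I : Ideal A), I ^ 2 = ⊥ →
      ∀ (g₁ g₂ : Spec (.of A) ⟶ X),
        Spec.map (CommRingCat.ofHom (Ideal.Quotient.mk I)) ≫ g₁ =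
          Spec.map (CommRingCat.ofHom (Ideal.Quotient.mk I)) ≫ g₂ →
        g₁ ≫ f = g₂ ≫ f → g₁ = g₂) : FormallyUnramified f := by
  refine FormallyUnramified.of_hom_ext f ?_
  intro R S' φ hφ hker g₁ g₂ h1 h2
  let ψb := RingHom.quotientKerEquivOfSurjective hφ
  have hfac : φ = CommRingCat.ofHom (Ideal.Quotient.mk (RingHom.ker φ.hom)) ≫
      CommRingCat.ofHom ψb.toRingHom := by
    ext x
    rfl
  let ι := Scheme.Spec.mapIso ψb.toCommRingCatIso.op
  have hι : ι.hom = Spec.map (CommRingCat.ofHom ψb.toRingHom) := rfl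
  refine H R (RingHom.ker φ.hom) hker g₁ g₂ ?_ h2
  rw [hfac, Spec.map_comp, ← hι, Category.assoc, Category.assoc] at h1
  exact (cancel_epi ι.hom).mp h1

theorem formallyUnramified_of_isFormallyEtaleHom {X S : Scheme.{u}} (f : X ⟶ S)
    (hf : MoreMor.IsFormallyEtaleHom f) : FormallyUnramified f := by
  apply formallyUnramified_of_affine_unique
  intro A _ I hI g₁ g₂ h1 h2
  obtain ⟨l, -, hlu⟩ := hf A I hI (Spec.map (CommRingCat.ofHom (Ideal.Quotient.mk I)) ≫ g₁)
    (g₁ ≫ f) (by rw [Category.assoc])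
  rw [hlu g₁ ⟨rfl, rfl⟩, hlu g₂ ⟨h1.symm, h2.symm⟩]

theorem affineLifts_of_isFormallyEtaleHom {X S : Scheme.{u}} (f : X ⟶ S)
    (hf : MoreMor.IsFormallyEtaleHom f) : AffineLifts f (𝟙 X) f := by
  intro A _ I hI a b w
  obtain ⟨l, ⟨hl1, hl2⟩, -⟩ := hf A I hI a b w
  exact ⟨l, by rw [hl1, Category.comp_id], hl2⟩

theorem existsUnique_lift_of_isFormallyEtaleHom {X S : Scheme.{u}} (f : X ⟶ S)
    (hf : MoreMor.IsFormallyEtaleHom f) {T T' : Scheme.{u}} (t : T ⟶ T')
    (ht : MoreMor.IsFirstOrderThickening t) (a : T ⟶ X) (b : T' ⟶ S) (w : t ≫ b = a ≫ f) :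
    ∃! l : T' ⟶ X, t ≫ l = a ∧ l ≫ f = b := by
  haveI := formallyUnramified_of_isFormallyEtaleHom f hf
  have := existsUnique_lift_of_affineLifts (Category.id_comp f)
    (affineLifts_of_isFormallyEtaleHom f hf) t ht a b w
  simpa using this

end Groth.Agent.H5.Thick
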