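import Groth.Agent.Lib.Helper5.Thick.UnivThickSch

set_option autoImplicit false
universe u

open AlgebraicGeometry CategoryTheory Limits

namespace Groth.Agent.H5.Thick

lemma isNilpotent_ker_of_isFirstOrderThickening {T T' : Scheme.{u}} {t : T ⟶ T'}
    (ht : MoreMor.IsFirstOrderThickening t) : IsNilpotent t.ker :=
  ⟨2, by rw [pow_two]; exact ht.2⟩

/-- a first order thickening of an affine scheme `Spec R₀` is isomorphic to the standard one. -/
theorem exists_iso_SpecMap_mk {P : Scheme.{u}} {R₀ : CommRingCat.{u}} (t₀ : P ⟶ Spec R₀)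
    (ht₀ : MoreMor.IsFirstOrderThickening t₀) :
    ∃ (I : Ideal R₀) (_ : I ^ 2 = ⊥) (E : Spec (.of (R₀ ⧸ I)) ≅ P),
      E.hom ≫ t₀ = Spec.map (CommRingCat.ofHom (Ideal.Quotient.mk I)) := by
  haveI : IsClosedImmersion t₀ := ht₀.1.1
  haveI : IsAffine P := isAffine_of_isAffineHom t₀
  let e := P.isoSpec
  obtain ⟨ψ, hψ⟩ := Spec.map_surjective (e.inv ≫ t₀)
  have hfot : MoreMor.IsFirstOrderThickening (Spec.map ψ) := by
    rw [hψ]
    have := (isFirstOrderThickening_iso_comp_iff t₀ e.symm (Iso.refl _)).mpr ht₀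
    simpa using this
  have hsq := sqZeroSurj_of_isFirstOrderThickening_SpecMap ψ hfot
  refine ⟨RingHom.ker ψ.hom, ?_, ?_⟩
  · rw [← le_bot_iff, pow_two, Ideal.mul_le]
    intro x hx y hy
    exact hsq.2 x y hx hy
  · let ψb := RingHom.quotientKerEquivOfSurjective hsq.1
    let ι := Scheme.Spec.mapIso ψb.toCommRingCatIso.op
    have hι : ι.hom = Spec.map (CommRingCat.ofHom ψb.toRingHom) := rfl
    refine ⟨ι.symm ≪≫ e.symm, ?_⟩
    have hfac : ψ = CommRingCat.ofHom (Ideal.Quotient.mk (RingHom.ker ψ.hom)) ≫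
        CommRingCat.ofHom ψb.toRingHom := by
      ext x
      rfl
    rw [Iso.trans_hom, Iso.symm_hom, Iso.symm_hom, Category.assoc, ← hψ, Iso.inv_comp_eq, hι]
    conv_lhs => rw [hfac]
    rw [Spec.map_comp]

end Groth.Agent.H5.Thick

namespace Groth.Agent.H5.Thick

section

variable {Z Z' X : Scheme.{u}} (h : Z ⟶ X) (i : Z ⟶ Z') (h' : Z' ⟶ X)

/-- the affine lifting property. -/
def AffineLifts : Prop :=
  ∀ (A : Type u) [CommRing A] (I : Ideal A), I ^ 2 = ⊥ →
    ∀ (a : Spec (.of (A ⧸ I)) ⟶ Z) (b : Spec (.of A) ⟶ X),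
      Spec.map (CommRingCat.ofHom (Ideal.Quotient.mk I)) ≫ b = a ≫ h →
      ∃ l : Spec (.of A) ⟶ Z',
        Spec.map (CommRingCat.ofHom (Ideal.Quotient.mk I)) ≫ l = a ≫ i ∧ l ≫ h' = b

variable {h i h'}

/-- lifting against first order thickenings of `Spec R₀` with arbitrary source. -/
lemma AffineLifts.lift_of_affine_target (H : AffineLifts h i h') {P : Scheme.{u}}
    {R₀ : CommRingCat.{u}} (t₀ : P ⟶ Spec R₀) (ht₀ : MoreMor.IsFirstOrderThickening t₀)
    (a₀ : P ⟶ Z) (b₀ : Spec R₀ ⟶ X) (w : t₀ ≫ b₀ = a₀ ≫ h) :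
    ∃ l₀ : Spec R₀ ⟶ Z', t₀ ≫ l₀ = a₀ ≫ i ∧ l₀ ≫ h' = b₀ := by
  obtain ⟨I, hI, E, hE⟩ := exists_iso_SpecMap_mk t₀ ht₀
  obtain ⟨l, hl1, hl2⟩ := H R₀ I hI (E.hom ≫ a₀) b₀ (by
    rw [← hE, Category.assoc, w, Category.assoc])
  refine ⟨l, ?_, hl2⟩
  rw [← cancel_epi E.hom, ← Category.assoc, hE, hl1, Category.assoc]

/-- lifting against first order thickenings of an affine scheme with arbitrary source. -/
lemma AffineLifts.lift_of_isAffine (H : AffineLifts h i h') {P Y : Scheme.{u}} [IsAffine Y]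
    (t₀ : P ⟶ Y) (ht₀ : MoreMor.IsFirstOrderThickening t₀)
    (a₀ : P ⟶ Z) (b₀ : Y ⟶ X) (w : t₀ ≫ b₀ = a₀ ≫ h) :
    ∃ l₀ : Y ⟶ Z', t₀ ≫ l₀ = a₀ ≫ i ∧ l₀ ≫ h' = b₀ := by
  let e := Y.isoSpec
  have hfot : MoreMor.IsFirstOrderThickening (t₀ ≫ e.hom) := by
    have := (isFirstOrderThickening_iso_comp_iff t₀ (Iso.refl _) e).mpr ht₀
    simpa using this
  obtain ⟨l, hl1, hl2⟩ := H.lift_of_affine_target (t₀ ≫ e.hom) hfot a₀ (e.inv ≫ b₀) (by
    rw [Category.assoc, Iso.hom_inv_id_assoc, w])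
  refine ⟨e.hom ≫ l, ?_, ?_⟩
  · rw [← Category.assoc, hl1]
  · rw [Category.assoc, hl2, Iso.hom_inv_id_assoc]

/-- gluing local lifts along a first order thickening into a formally unramified morphism. -/
theorem existsUnique_lift_of_local_lifts [FormallyUnramified h'] {T T' : Scheme.{u}} (t : T ⟶ T')
    (ht : MoreMor.IsFirstOrderThickening t) (a : T ⟶ Z) (b : T' ⟶ X)
    (𝒰 : T'.OpenCover)
    (hloc : ∀ x : 𝒰.I₀, ∃ l₀ : 𝒰.X x ⟶ Z',
      pullback.snd t (𝒰.f x) ≫ l₀ = (pullback.fst t (𝒰.f x) ≫ a) ≫ i ∧ l₀ ≫ h' = 𝒰.f x ≫ b) :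
    ∃! l : T' ⟶ Z', t ≫ l = a ≫ i ∧ l ≫ h' = b := by
  haveI : IsClosedImmersion t := ht.1.1
  choose l hl1 hl2 using hloc
  have hcompat : ∀ x y, pullback.fst (𝒰.f x) (𝒰.f y) ≫ l x = pullback.snd _ _ ≫ l y := by
    intro x y
    let q : pullback (𝒰.f x) (𝒰.f y) ⟶ T' := pullback.fst _ _ ≫ 𝒰.f x
    have hq : q = pullback.snd _ _ ≫ 𝒰.f y := pullback.condition
    have htQ : MoreMor.IsFirstOrderThickening (pullback.snd t q) :=
      isFirstOrderThickening_of_isPullback (IsPullback.of_hasPullback t q).flip ht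
    haveI : IsClosedImmersion (pullback.snd t q) := htQ.1.1
    refine FormallyUnramified.hom_ext (pullback.snd t q)
      (isNilpotent_ker_of_isFirstOrderThickening htQ) h' ?_ ?_
    · -- both sides equal `pullback.fst t q ≫ a ≫ i`
      let mx : pullback t q ⟶ pullback t (𝒰.f x) :=
        pullback.lift (pullback.fst t q) (pullback.snd t q ≫ pullback.fst _ _)
          (by rw [pullback.condition, Category.assoc])
      let my : pullback t q ⟶ pullback t (𝒰.f y) :=
        pullback.lift (pullback.fst t q) (pullback.snd t q ≫ pullback.snd _ _)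
          (by rw [pullback.condition, Category.assoc, hq])
      have e1 : pullback.snd t q ≫ pullback.fst (𝒰.f x) (𝒰.f y) ≫ l x =
          pullback.fst t q ≫ a ≫ i := by
        have : pullback.snd t q ≫ pullback.fst (𝒰.f x) (𝒰.f y) =
            mx ≫ pullback.snd t (𝒰.f x) := (pullback.lift_snd _ _ _).symm
        rw [← Category.assoc, this, Category.assoc, hl1, ← Category.assoc, ← Category.assoc,
          pullback.lift_fst, Category.assoc]
      have e2 : pullback.snd t q ≫ pullback.snd (𝒰.f x) (𝒰.f y) ≫ l y =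
          pullback.fst t q ≫ a ≫ i := by
        have : pullback.snd t q ≫ pullback.snd (𝒰.f x) (𝒰.f y) =
            my ≫ pullback.snd t (𝒰.f y) := (pullback.lift_snd _ _ _).symm
        rw [← Category.assoc, this, Category.assoc, hl1, ← Category.assoc, ← Category.assoc,
          pullback.lift_fst, Category.assoc]
      rw [e1, e2]
    · rw [Category.assoc, Category.assoc, hl2, hl2, ← Category.assoc, ← Category.assoc,
        pullback.condition]
  refine ⟨𝒰.glueMorphisms l hcompat, ⟨?_, ?_⟩, ?_⟩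
  · refine Scheme.Cover.hom_ext (𝒰.pullback₁ t) _ _ (fun x => ?_)
    show pullback.fst t (𝒰.f x) ≫ t ≫ _ = pullback.fst t (𝒰.f x) ≫ a ≫ i
    rw [← Category.assoc, pullback.condition, Category.assoc, Scheme.Cover.ι_glueMorphisms, hl1,
      Category.assoc]
  · refine Scheme.Cover.hom_ext 𝒰 _ _ (fun x => ?_)
    rw [← Category.assoc, Scheme.Cover.ι_glueMorphisms, hl2]
  · rintro l' ⟨h1, h2⟩
    refine FormallyUnramified.hom_ext t (isNilpotent_ker_of_isFirstOrderThickening ht) h' ?_ ?_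
    · rw [h1]
      refine Scheme.Cover.hom_ext (𝒰.pullback₁ t) _ _ (fun x => ?_)
      show pullback.fst t (𝒰.f x) ≫ a ≫ i = pullback.fst t (𝒰.f x) ≫ t ≫ _
      rw [← Category.assoc _ t, pullback.condition, Category.assoc, Scheme.Cover.ι_glueMorphisms,
        hl1, Category.assoc]
    · rw [h2]
      refine Scheme.Cover.hom_ext 𝒰 _ _ (fun x => ?_)
      rw [← Category.assoc, Scheme.Cover.ι_glueMorphisms, hl2]

theorem existsUnique_lift_of_affineLifts_aux (hih' : i ≫ h' = h) [FormallyUnramified h']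
    (H : AffineLifts h i h') {T T' : Scheme.{u}} (t : T ⟶ T')
    (ht : MoreMor.IsFirstOrderThickening t) (a : T ⟶ Z) (b : T' ⟶ X) (w : t ≫ b = a ≫ h)
    (𝒰 : T'.OpenCover) [∀ x, IsAffine (𝒰.X x)] :
    ∃! l : T' ⟶ Z', t ≫ l = a ≫ i ∧ l ≫ h' = b := by
  refine existsUnique_lift_of_local_lifts t ht a b 𝒰 ?_
  intro x
  refine H.lift_of_isAffine (pullback.snd t (𝒰.f x))
    (isFirstOrderThickening_of_isPullback (IsPullback.of_hasPullback t (𝒰.f x)).flip ht)
    (pullback.fst t (𝒰.f x) ≫ a) (𝒰.f x ≫ b) ?_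
  have hc : pullback.fst t (𝒰.f x) ≫ t = pullback.snd t (𝒰.f x) ≫ 𝒰.f x := pullback.condition
  rw [← Category.assoc, ← hc, Category.assoc, w, Category.assoc]

theorem existsUnique_lift_of_affineLifts (hih' : i ≫ h' = h) [FormallyUnramified h']
    (H : AffineLifts h i h') {T T' : Scheme.{u}} (t : T ⟶ T')
    (ht : MoreMor.IsFirstOrderThickening t) (a : T ⟶ Z) (b : T' ⟶ X) (w : t ≫ b = a ≫ h) :
    ∃! l : T' ⟶ Z', t ≫ l = a ≫ i ∧ l ≫ h' = b :=
  existsUnique_lift_of_affineLifts_aux hih' H t ht a b w T'.affineCover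

end

end Groth.Agent.H5.Thick
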