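import Mathlib.RingTheory.RingHom.Surjective
import Mathlib.RingTheory.TensorProduct.Quotient
import Mathlib.RingTheory.LocalProperties.Basic

set_option autoImplicit false
universe u

open TensorProduct

namespace Groth.Agent.H5.Thick

/-- surjective ring maps with square zero kernel. -/
def SqZeroSurj {R S : Type u} [CommRing R] [CommRing S] (f : R →+* S) : Prop :=
  Function.Surjective f ∧ ∀ x y, f x = 0 → f y = 0 → x * y = 0

lemma sqZeroSurj_respectsIso : RingHom.RespectsIso @SqZeroSurj := by
  constructor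
  · intro R S T _ _ _ f e ⟨h1, h2⟩
    refine ⟨e.surjective.comp h1, fun x y hx hy => h2 x y ?_ ?_⟩
    · exact e.injective (by simpa using hx)
    · exact e.injective (by simpa using hy)
  · intro R S T _ _ _ f e ⟨h1, h2⟩
    refine ⟨h1.comp e.surjective, fun x y hx hy => ?_⟩
    have := h2 (e x) (e y) hx hy
    rw [← map_mul] at this
    exact e.injective (by simpa using this)

lemma mem_map_of_tmul_one_eq_zero {R S T : Type u} [CommRing R] [CommRing S] [CommRing T]
    [Algebra R S] [Algebra R T] (hT : Function.Surjective (algebraMap R T)) (x : S)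
    (hx : (x ⊗ₜ[R] (1 : T) : S ⊗[R] T) = 0) :
    x ∈ Ideal.map (algebraMap R S) (RingHom.ker (algebraMap R T)) := by
  set K := RingHom.ker (algebraMap R T) with hK
  have hsurj : Function.Surjective (Algebra.ofId R T) := hT
  let e : (R ⧸ RingHom.ker (Algebra.ofId R T)) ≃ₐ[R] T :=
    Ideal.quotientKerAlgEquivOfSurjective hsurj
  let e2 : S ⊗[R] T ≃ₐ[S] S ⊗[R] (R ⧸ RingHom.ker (Algebra.ofId R T)) :=
    Algebra.TensorProduct.congr AlgEquiv.refl e.symm
  let e3 := (Algebra.TensorProduct.quotIdealMapEquivTensorQuot S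
    (RingHom.ker (Algebra.ofId R T))).symm
  have h1 : e3 (e2 (x ⊗ₜ[R] (1 : T))) = Ideal.Quotient.mk _ x := by
    have : e2 (x ⊗ₜ[R] (1 : T)) = x ⊗ₜ[R] (1 : R ⧸ RingHom.ker (Algebra.ofId R T)) := by
      simp [e2]
    rw [this]
    show (Algebra.TensorProduct.quotIdealMapEquivTensorQuot S
      (RingHom.ker (Algebra.ofId R T))).symm _ = _
    rw [AlgEquiv.symm_apply_eq, Algebra.TensorProduct.quotIdealMapEquivTensorQuot_mk]
  rw [hx, map_zero, map_zero] at h1
  exact Ideal.Quotient.eq_zero_iff_mem.mp h1.symm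

lemma sqZeroSurj_isStableUnderBaseChange : RingHom.IsStableUnderBaseChange @SqZeroSurj := by
  refine RingHom.IsStableUnderBaseChange.mk sqZeroSurj_respectsIso ?_
  intro R S T _ _ _ _ _ ⟨h1, h2⟩
  constructor
  · intro x
    induction x with
    | zero => exact ⟨0, map_zero _⟩
    | tmul x y =>
      obtain ⟨y, rfl⟩ := h1 y; use y • x; dsimp
      rw [TensorProduct.smul_tmul, Algebra.algebraMap_eq_smul_one]
    | add x y ex ey => obtain ⟨⟨x, rfl⟩, ⟨y, rfl⟩⟩ := ex, ey; exact ⟨x + y, map_add _ x y⟩
  · intro x y hx hy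
    have hx' := mem_map_of_tmul_one_eq_zero h1 x hx
    have hy' := mem_map_of_tmul_one_eq_zero h1 y hy
    have hmul := Ideal.mul_mem_mul hx' hy'
    rw [← Ideal.map_mul] at hmul
    have hK : RingHom.ker (algebraMap R T) * RingHom.ker (algebraMap R T) = ⊥ := by
      rw [← le_bot_iff, Ideal.mul_le]
      intro a ha b hb
      exact h2 a b ha hb
    rw [hK, Ideal.map_bot] at hmul
    exact hmul

lemma sqZeroSurj_localizationAwayPreserves : RingHom.LocalizationAwayPreserves @SqZeroSurj :=
  sqZeroSurj_isStableUnderBaseChange.localizationPreserves.away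

lemma sqZeroSurj_ofLocalizationSpan : RingHom.OfLocalizationSpan @SqZeroSurj := by
  intro R S _ _ f s hs H
  refine ⟨RingHom.surjective_ofLocalizationSpan f s hs (fun r => (H r).1), ?_⟩
  intro x y hx hy
  have := Submodule.mem_of_span_eq_top_of_smul_pow_mem (⊥ : Submodule R R) s hs (x * y) ?_
  · simpa using this
  · intro r
    have h2 := (H r).2 (algebraMap R (Localization.Away (r : R)) x)
      (algebraMap R (Localization.Away (r : R)) y) ?_ ?_
    · rw [← map_mul, IsLocalization.map_eq_zero_iff (Submonoid.powers (r : R))] at h2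
      obtain ⟨⟨_, n, rfl⟩, hn⟩ := h2
      exact ⟨n, by simpa using hn⟩
    · rw [Localization.awayMap, IsLocalization.Away.map, IsLocalization.map_eq, hx, map_zero]
    · rw [Localization.awayMap, IsLocalization.Away.map, IsLocalization.map_eq, hy, map_zero]

end Groth.Agent.H5.Thick
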