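import Groth.Agent.Lib.Helper5.Thick.GlueLift
import Groth.Agent.Lib.Helper5.CA.UnivThickExists2

set_option autoImplicit false
universe u

open AlgebraicGeometry CategoryTheory Limits

namespace Groth.Agent.H5.Thick

open Groth.Agent.H5.CA in
/-- affine existence of the universal first order thickening. -/
theorem exists_isUnivThickening_SpecMap {R S : CommRingCat.{u}} (φ : R ⟶ S)
    (hφ : φ.hom.FormallyUnramified) :
    ∃ (S' : CommRingCat.{u}) (π : S' ⟶ S) (φ' : R ⟶ S'),
      OmegaSh.IsUnivThickening (Spec.map φ) (Spec.map π) (Spec.map φ') := by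
  letI : Algebra R S := φ.hom.toAlgebra
  haveI : Algebra.FormallyUnramified R S := hφ
  let π : CommRingCat.of (Thick R S) ⟶ S := CommRingCat.ofHom (thickMap R S).toRingHom
  let φ' : R ⟶ CommRingCat.of (Thick R S) := CommRingCat.ofHom (algebraMap R (Thick R S))
  have hring := isUnivThickeningRing_thick R S
  refine ⟨CommRingCat.of (Thick R S), π, φ', ?_⟩
  have hcomp : φ' ≫ π = φ := by
    ext r
    exact (thickMap R S).commutes r
  have hfot : MoreMor.IsFirstOrderThickening (Spec.map π) := by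
    apply isFirstOrderThickening_SpecMap
    refine ⟨hring.1, fun x y hx hy => ?_⟩
    have : x * y ∈ RingHom.ker (thickMap R S).toRingHom ^ 2 := by
      rw [pow_two]
      exact Ideal.mul_mem_mul hx hy
    rw [hring.2.1] at this
    exact this
  have hih : Spec.map π ≫ Spec.map φ' = Spec.map φ := by rw [← Spec.map_comp, hcomp]
  haveI : FormallyUnramified (Spec.map φ') := by
    rw [HasRingHomProperty.Spec_iff (P := @FormallyUnramified)]
    exact RingHom.formallyUnramified_algebraMap.mpr
      (formallyUnramified_of_isUnivThickeningRing' _ hring)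
  refine ⟨hfot, hih, fun T T' t b a ht hw => existsUnique_lift_of_affineLifts hih ?_ t ht a b hw⟩
  intro A _ I hI a b hw
  obtain ⟨α, rfl⟩ := Spec.map_surjective a
  obtain ⟨β, rfl⟩ := Spec.map_surjective b
  have hw' : β ≫ CommRingCat.ofHom (Ideal.Quotient.mk I) = φ ≫ α := by
    apply Spec.map_injective
    rw [Spec.map_comp, Spec.map_comp]
    exact hw
  letI : Algebra R A := β.hom.toAlgebra
  let αₐ : S →ₐ[R] A ⧸ I :=
    { α.hom with
      commutes' := fun r => (congrArg (fun f => f.hom r) hw').symm }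
  obtain ⟨a', ha', -⟩ := hring.2.2 A I hI αₐ
  refine ⟨Spec.map (CommRingCat.ofHom a'.toRingHom), ?_, ?_⟩
  · rw [← Spec.map_comp, ← Spec.map_comp]
    congr 1
    refine CommRingCat.hom_ext (RingHom.ext fun x => ?_)
    exact DFunLike.congr_fun ha' x
  · rw [← Spec.map_comp]
    congr 1
    refine CommRingCat.hom_ext (RingHom.ext fun r => ?_)
    exact a'.commutes r

/-- universal thickenings are insensitive to enlarging the base along an open immersion. -/
theorem isUnivThickening_comp_openImmersion {Z Z' U X : Scheme.{u}} {h : Z ⟶ U} {i : Z ⟶ Z'}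
    {h' : Z' ⟶ U} (hu : OmegaSh.IsUnivThickening h i h') (ι : U ⟶ X) [IsOpenImmersion ι] :
    OmegaSh.IsUnivThickening (h ≫ ι) i (h' ≫ ι) := by
  refine ⟨hu.1, by rw [← Category.assoc, hu.2.1], fun T T' t b a ht hw => ?_⟩
  have hrange : Set.range b ⊆ Set.range ι := by
    rintro _ ⟨x', rfl⟩
    obtain ⟨x, rfl⟩ := ht.1.2.surj x'
    have h1 : b (t x) = ι (h (a x)) := by
      have := congrArg (fun φ : T ⟶ X => φ x) hw
      simpa using this
    rw [h1]
    exact ⟨_, rfl⟩
  have hw₀ : t ≫ IsOpenImmersion.lift ι b hrange = a ≫ h := by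
    rw [← cancel_mono ι, Category.assoc, IsOpenImmersion.lift_fac, hw, Category.assoc]
  obtain ⟨γ, ⟨hγ1, hγ2⟩, hγu⟩ := hu.2.2 T T' t (IsOpenImmersion.lift ι b hrange) a ht hw₀
  refine ⟨γ, ⟨hγ1, ?_⟩, ?_⟩
  · rw [← Category.assoc, hγ2, IsOpenImmersion.lift_fac]
  · rintro γ' ⟨h1, h2⟩
    apply hγu
    refine ⟨h1, ?_⟩
    rw [← cancel_mono ι, Category.assoc, h2, IsOpenImmersion.lift_fac]

/-- existence of the universal first order thickening for an affine source mapping into an
affine open of the target. -/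
theorem exists_isUnivThickening_of_isAffine {Z X : Scheme.{u}} (h : Z ⟶ X) [FormallyUnramified h]
    [IsAffine Z] (U : X.Opens) (hU : IsAffineOpen U) (hZU : Set.range h ⊆ U) :
    ∃ (Z' : Scheme.{u}) (i : Z ⟶ Z') (h' : Z' ⟶ X), OmegaSh.IsUnivThickening h i h' := by
  have hr : Set.range h ⊆ Set.range U.ι := by
    rw [Scheme.Opens.range_ι]
    exact hZU
  let h₀ : Z ⟶ ↑U := IsOpenImmersion.lift U.ι h hr
  have hh₀ : h₀ ≫ U.ι = h := IsOpenImmersion.lift_fac _ _ _
  haveI : FormallyUnramified (h₀ ≫ U.ι) := by rw [hh₀]; infer_instance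
  haveI : FormallyUnramified h₀ := FormallyUnramified.of_comp h₀ U.ι
  haveI : IsAffine ↑U := hU
  let eZ := Z.isoSpec
  let eU := (↑U : Scheme.{u}).isoSpec
  obtain ⟨φ, hφ⟩ := Spec.map_surjective (eZ.inv ≫ h₀ ≫ eU.hom)
  have hφu : φ.hom.FormallyUnramified := by
    rw [← HasRingHomProperty.Spec_iff (P := @FormallyUnramified), hφ,
      MorphismProperty.cancel_left_of_respectsIso (P := @FormallyUnramified),
      MorphismProperty.cancel_right_of_respectsIso (P := @FormallyUnramified)]
    infer_instance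
  obtain ⟨S', π, φ', hu⟩ := exists_isUnivThickening_SpecMap φ hφu
  have hu₀ : OmegaSh.IsUnivThickening h₀ (eZ.hom ≫ Spec.map π) (Spec.map φ' ≫ eU.inv) :=
    isUnivThickening_of_iso hu eZ (Iso.refl _) eU
      (by rw [hφ, Iso.hom_inv_id_assoc])
      (by simp)
      (by simp)
  have := isUnivThickening_comp_openImmersion hu₀ U.ι
  rw [hh₀] at this
  exact ⟨_, _, _, this⟩

end Groth.Agent.H5.Thick
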