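import Groth.Agent.Lib.Helper5.Thick.FOThick
import Groth.Agent.Lib.Helper5.CA.UnivThickDer2
import Groth.Prelude.Def_Omega3
import Mathlib.AlgebraicGeometry.Morphisms.FormallyUnramified

set_option autoImplicit false
universe u

open AlgebraicGeometry CategoryTheory Limits

namespace Groth.Agent.H5.Thick

/-- first order thickenings are stable under composition with isomorphisms. -/
theorem isFirstOrderThickening_iso_comp_iff {X Y X₁ Y₁ : Scheme.{u}} (i : X ⟶ Y)
    (eX : X₁ ≅ X) (eY : Y ≅ Y₁) :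
    MoreMor.IsFirstOrderThickening (eX.hom ≫ i ≫ eY.hom) ↔ MoreMor.IsFirstOrderThickening i := by
  rw [isFirstOrderThickening_iff, isFirstOrderThickening_iff,
    MorphismProperty.cancel_left_of_respectsIso (P := FOT),
    MorphismProperty.cancel_right_of_respectsIso (P := FOT),
    MorphismProperty.cancel_left_of_respectsIso (P := @Surjective),
    MorphismProperty.cancel_right_of_respectsIso (P := @Surjective)]

/-- restriction of a universal first order thickening to opens. -/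
theorem isUnivThickening_resLE {Z Z' X : Scheme.{u}} (h : Z ⟶ X) (i : Z ⟶ Z') (h' : Z' ⟶ X)
    (hu : OmegaSh.IsUnivThickening h i h') (V : Z.Opens) (U : X.Opens) (hVU : V ≤ h ⁻¹ᵁ U)
    (V' : Z'.Opens) (hV' : i ⁻¹ᵁ V' = V) (hV'U : V' ≤ h' ⁻¹ᵁ U) :
    OmegaSh.IsUnivThickening (h.resLE U V hVU) (i.resLE V' V hV'.ge) (h'.resLE U V' hV'U) := by
  subst hV'
  have hih' : i ≫ h' = h := hu.2.1
  refine ⟨?_, ?_, ?_⟩
  · rw [Scheme.Hom.resLE_eq_morphismRestrict]
    exact Groth.Agent.H5.Thick.isFirstOrderThickening_of_isPullback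
      (isPullback_morphismRestrict i V') hu.1
  · rw [Scheme.Hom.resLE_comp_resLE]
    congr 1
  · intro T T' t β α ht hw
    obtain ⟨γ, ⟨hγ1, hγ2⟩, hγu⟩ := hu.2.2 T T' t (β ≫ U.ι) (α ≫ (i ⁻¹ᵁ V').ι) ht (by
      rw [← Category.assoc, hw, Category.assoc, Scheme.Hom.resLE_comp_ι, Category.assoc])
    have hrange : Set.range γ ⊆ Set.range V'.ι := by
      rw [Scheme.Opens.range_ι]
      rintro _ ⟨x', rfl⟩
      obtain ⟨x, rfl⟩ := ht.1.2.surj x'
      have h1 : γ (t x) = i ((i ⁻¹ᵁ V').ι (α x)) := by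
        have := congrArg (fun φ : T ⟶ Z' => φ x) hγ1
        simpa using this
      rw [h1]
      exact (α x).2
    refine ⟨IsOpenImmersion.lift V'.ι γ hrange, ⟨?_, ?_⟩, ?_⟩
    · rw [← cancel_mono V'.ι, Category.assoc, IsOpenImmersion.lift_fac, Category.assoc,
        Scheme.Hom.resLE_comp_ι, hγ1, Category.assoc]
    · rw [← cancel_mono U.ι, Category.assoc, Scheme.Hom.resLE_comp_ι,
        IsOpenImmersion.lift_fac_assoc, hγ2]
    · rintro γ'' ⟨h1, h2⟩
      rw [← cancel_mono V'.ι, IsOpenImmersion.lift_fac]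
      apply hγu
      constructor
      · rw [← Category.assoc, h1, Category.assoc, Scheme.Hom.resLE_comp_ι, Category.assoc]
      · rw [Category.assoc, ← Scheme.Hom.resLE_comp_ι h' hV'U, ← Category.assoc, h2]

/-- transport of universal thickenings along isomorphisms. -/
theorem isUnivThickening_of_iso {Z Z' X Z₁ Z'₁ X₁ : Scheme.{u}} {h : Z ⟶ X} {i : Z ⟶ Z'}
    {h' : Z' ⟶ X} (hu : OmegaSh.IsUnivThickening h i h') (eZ : Z₁ ≅ Z) (eZ' : Z'₁ ≅ Z')
    (eX : X₁ ≅ X) {h₁ : Z₁ ⟶ X₁} {i₁ : Z₁ ⟶ Z'₁} {h'₁ : Z'₁ ⟶ X₁}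
    (wh : h₁ ≫ eX.hom = eZ.hom ≫ h) (wi : i₁ ≫ eZ'.hom = eZ.hom ≫ i)
    (wh' : h'₁ ≫ eX.hom = eZ'.hom ≫ h') :
    OmegaSh.IsUnivThickening h₁ i₁ h'₁ := by
  have hi₁ : i₁ = eZ.hom ≫ i ≫ eZ'.inv := by
    rw [← Category.assoc, ← wi, Category.assoc, Iso.hom_inv_id, Category.comp_id]
  refine ⟨?_, ?_, ?_⟩
  · rw [hi₁]
    exact (isFirstOrderThickening_iso_comp_iff i eZ eZ'.symm).mpr hu.1
  · rw [← cancel_mono eX.hom, Category.assoc, wh', ← Category.assoc, wi, Category.assoc, hu.2.1,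
      wh]
  · intro T T' t b a ht hw
    obtain ⟨γ, ⟨hγ1, hγ2⟩, hγu⟩ := hu.2.2 T T' t (b ≫ eX.hom) (a ≫ eZ.hom) ht (by
      rw [← Category.assoc, hw, Category.assoc, wh, Category.assoc])
    refine ⟨γ ≫ eZ'.inv, ⟨?_, ?_⟩, ?_⟩
    · rw [← cancel_mono eZ'.hom, Category.assoc, Category.assoc, Iso.inv_hom_id, Category.comp_id,
        hγ1, Category.assoc, Category.assoc, wi]
    · rw [← cancel_mono eX.hom, Category.assoc, Category.assoc, wh', Iso.inv_hom_id_assoc, hγ2]
    · rintro γ'' ⟨h1, h2⟩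
      rw [← cancel_mono eZ'.hom, Category.assoc, Iso.inv_hom_id, Category.comp_id]
      apply hγu
      constructor
      · rw [← Category.assoc, h1, Category.assoc, wi, Category.assoc]
      · rw [Category.assoc, ← wh', ← Category.assoc, h2]

end Groth.Agent.H5.Thick

namespace Groth.Agent.H5.Thick

theorem isFirstOrderThickening_SpecMap {R S : CommRingCat.{u}} (φ : R ⟶ S)
    (hφ : SqZeroSurj φ.hom) : MoreMor.IsFirstOrderThickening (Spec.map φ) := by
  rw [isFirstOrderThickening_iff]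
  refine ⟨(HasAffineProperty.SpecMap_iff_of_affineAnd hasAffineProperty_FOT
    sqZeroSurj_respectsIso φ).mpr hφ, ?_⟩
  rw [surjective_iff]
  show Function.Surjective (PrimeSpectrum.comap φ.hom)
  rw [← Set.range_eq_univ, range_comap_of_surjective _ _ hφ.1,
    Set.eq_univ_iff_forall]
  intro p x hx
  have : x * x = 0 := hφ.2 x x hx hx
  have h2 : x * x ∈ p.asIdeal := by rw [this]; exact p.asIdeal.zero_mem
  exact (p.2.mem_or_mem h2).elim id id

theorem sqZeroSurj_of_isFirstOrderThickening_SpecMap {R S : CommRingCat.{u}} (φ : R ⟶ S)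
    (h : MoreMor.IsFirstOrderThickening (Spec.map φ)) : SqZeroSurj φ.hom :=
  (HasAffineProperty.SpecMap_iff_of_affineAnd hasAffineProperty_FOT
    sqZeroSurj_respectsIso φ).mp ((isFirstOrderThickening_iff _).mp h).1

theorem formallyUnramified_of_isUnivThickeningRing' {A B B' : Type u} [CommRing A] [CommRing B]
    [CommRing B'] [Algebra A B] [Algebra A B'] (π : B' →ₐ[A] B)
    (h : OmegaSh.IsUnivThickeningRing A B B' π) : Algebra.FormallyUnramified A B' := by
  letI : Algebra B' B := π.toRingHom.toAlgebra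
  haveI : IsScalarTower A B' B := IsScalarTower.of_algebraMap_eq (fun r => (π.commutes r).symm)
  have : IsScalarTower.toAlgHom A B' B = π := by ext x; rfl
  exact Groth.Agent.H5.CA.formallyUnramified_of_isUnivThickeningRing (this ▸ h)

/-- the affine case: a universal first order thickening of affine schemes gives a ring level
universal first order thickening. -/
theorem isUnivThickeningRing_of_SpecMap {R S S' : CommRingCat.{u}} (φh : R ⟶ S) (φ' : R ⟶ S')
    (π : S' ⟶ S) (hu : OmegaSh.IsUnivThickening (Spec.map φh) (Spec.map π) (Spec.map φ')) :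
    letI : Algebra R S := φh.hom.toAlgebra
    letI : Algebra R S' := φ'.hom.toAlgebra
    ∃ πₐ : S' →ₐ[R] S, πₐ.toRingHom = π.hom ∧ OmegaSh.IsUnivThickeningRing R S S' πₐ := by
  letI : Algebra R S := φh.hom.toAlgebra
  letI : Algebra R S' := φ'.hom.toAlgebra
  have hcomp : φ' ≫ π = φh := by
    have := hu.2.1
    rw [← Spec.map_comp] at this
    exact Spec.map_injective this
  let πₐ : S' →ₐ[R] S :=
    { π.hom with
      commutes' := fun r => by
        have := congrArg (fun f => f.hom r) hcomp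
        exact this }
  have hsq := sqZeroSurj_of_isFirstOrderThickening_SpecMap π hu.1
  refine ⟨πₐ, rfl, hsq.1, ?_, ?_⟩
  · rw [← le_bot_iff, pow_two, Ideal.mul_le]
    intro x hx y hy
    exact hsq.2 x y hx hy
  · intro A _ _ I hI a
    let t : Spec (.of (A ⧸ I)) ⟶ Spec (.of A) := Spec.map (CommRingCat.ofHom (Ideal.Quotient.mk I))
    have ht : MoreMor.IsFirstOrderThickening t := by
      apply isFirstOrderThickening_SpecMap
      refine ⟨Ideal.Quotient.mk_surjective, fun x y hx hy => ?_⟩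
      have hx' : x ∈ I := Ideal.Quotient.eq_zero_iff_mem.mp hx
      have hy' : y ∈ I := Ideal.Quotient.eq_zero_iff_mem.mp hy
      have : x * y ∈ I ^ 2 := by rw [pow_two]; exact Ideal.mul_mem_mul hx' hy'
      rwa [hI] at this
    let b : Spec (.of A) ⟶ Spec R := Spec.map (CommRingCat.ofHom (algebraMap R A))
    let as : Spec (.of (A ⧸ I)) ⟶ Spec S := Spec.map (CommRingCat.ofHom a.toRingHom)
    have hw : t ≫ b = as ≫ Spec.map φh := by
      rw [← Spec.map_comp, ← Spec.map_comp]
      congr 1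
      ext r
      exact (a.commutes r).symm
    obtain ⟨γ, ⟨hγ1, hγ2⟩, hγu⟩ := hu.2.2 _ _ t b as ht hw
    obtain ⟨g, rfl⟩ := Spec.map_surjective γ
    have hg1 : g ≫ CommRingCat.ofHom (Ideal.Quotient.mk I) =
        π ≫ CommRingCat.ofHom a.toRingHom := by
      apply Spec.map_injective
      rw [Spec.map_comp, Spec.map_comp]
      exact hγ1
    have hg2 : φ' ≫ g = CommRingCat.ofHom (algebraMap R A) := by
      apply Spec.map_injective
      rw [Spec.map_comp]
      exact hγ2
    let a' : S' →ₐ[R] A :=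
      { g.hom with
        commutes' := fun r => congrArg (fun f => f.hom r) hg2 }
    refine ⟨a', ?_, ?_⟩
    · ext x
      exact congrArg (fun f => f.hom x) hg1
    · intro a'' ha''
      have := hγu (Spec.map (CommRingCat.ofHom a''.toRingHom)) ⟨?_, ?_⟩
      · have h2 := Spec.map_injective this
        ext x
        exact congrArg (fun f => f.hom x) h2
      · rw [← Spec.map_comp, ← Spec.map_comp]
        congr 1
        ext x
        exact DFunLike.congr_fun ha'' x
      · rw [← Spec.map_comp]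
        congr 1
        ext r
        exact a''.commutes r

end Groth.Agent.H5.Thick

namespace Groth.Agent.H5.Thick

theorem formallyUnramified_of_isUnivThickening_SpecMap {R S S' : CommRingCat.{u}} (φh : R ⟶ S)
    (φ' : R ⟶ S') (π : S' ⟶ S)
    (hu : OmegaSh.IsUnivThickening (Spec.map φh) (Spec.map π) (Spec.map φ')) :
    φ'.hom.FormallyUnramified := by
  letI : Algebra R S := φh.hom.toAlgebra
  letI : Algebra R S' := φ'.hom.toAlgebra
  obtain ⟨πₐ, -, hring⟩ := isUnivThickeningRing_of_SpecMap φh φ' π hu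
  exact formallyUnramified_of_isUnivThickeningRing' πₐ hring

lemma SpecMap_appLE_isoSpec_inv {X Y : Scheme.{u}} (f : X ⟶ Y) {U : Y.Opens} {V : X.Opens}
    (hU : IsAffineOpen U) (hV : IsAffineOpen V) (e : V ≤ f ⁻¹ᵁ U) :
    Spec.map (f.appLE U V e) ≫ hU.isoSpec.inv = hV.isoSpec.inv ≫ f.resLE U V e := by
  rw [← cancel_mono U.ι, Category.assoc, Category.assoc, IsAffineOpen.isoSpec_inv_ι,
    Scheme.Hom.resLE_comp_ι, IsAffineOpen.isoSpec_inv_ι_assoc,
    IsAffineOpen.SpecMap_appLE_fromSpec]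

theorem formallyUnramified_of_isUnivThickening {Z Z' X : Scheme.{u}} (h : Z ⟶ X) (i : Z ⟶ Z')
    (h' : Z' ⟶ X) (hu : OmegaSh.IsUnivThickening h i h') : FormallyUnramified h' := by
  refine ⟨fun {U} hU {V'} hV' e => ?_⟩
  have hi : MoreMor.IsFirstOrderThickening i := hu.1
  haveI : IsClosedImmersion i := hi.1.1
  have hV : IsAffineOpen (i ⁻¹ᵁ V') := hV'.preimage i
  have hVU : i ⁻¹ᵁ V' ≤ h ⁻¹ᵁ U := by
    rw [← hu.2.1, Scheme.Hom.comp_preimage]
    exact Scheme.Hom.preimage_mono i e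
  have hres := isUnivThickening_resLE h i h' hu (i ⁻¹ᵁ V') U hVU V' rfl e
  have hSpec : OmegaSh.IsUnivThickening (Spec.map (h.appLE U (i ⁻¹ᵁ V') hVU))
      (Spec.map (i.appLE V' (i ⁻¹ᵁ V') le_rfl)) (Spec.map (h'.appLE U V' e)) :=
    isUnivThickening_of_iso hres hV.isoSpec.symm hV'.isoSpec.symm hU.isoSpec.symm
      (SpecMap_appLE_isoSpec_inv h hU hV hVU) (SpecMap_appLE_isoSpec_inv i hV' hV le_rfl)
      (SpecMap_appLE_isoSpec_inv h' hU hV' e)
  exact formallyUnramified_of_isUnivThickening_SpecMap _ _ _ hSpec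

end Groth.Agent.H5.Thick
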