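import Groth.Agent.Lib.Helper5.Thick.UnivThickAffine

set_option autoImplicit false
universe u

open AlgebraicGeometry CategoryTheory Limits

namespace Groth.Agent.H5.Thick

/-- every open of the source of a closed immersion is the preimage of an open of the target. -/
theorem exists_opens_preimage_eq {Z Z' : Scheme.{u}} (i : Z ⟶ Z') [IsClosedImmersion i]
    (V : Z.Opens) : ∃ V' : Z'.Opens, i ⁻¹ᵁ V' = V := by
  have hcl : IsClosed (i '' ((V : Set Z)ᶜ)) :=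
    i.isClosedEmbedding.isClosedMap _ V.2.isClosed_compl
  refine ⟨⟨(i '' ((V : Set Z)ᶜ))ᶜ, hcl.isOpen_compl⟩, ?_⟩
  ext x
  constructor
  · intro hx
    by_contra hxV
    exact hx ⟨x, hxV, rfl⟩
  · rintro hx ⟨y, hy, hyx⟩
    exact hy (i.isClosedEmbedding.injective hyx ▸ hx)

/-- two universal first order thickenings of the same morphism are isomorphic. -/
theorem isIso_of_isUnivThickening {Z Z₁ Z₂ X : Scheme.{u}} {h : Z ⟶ X} {i₁ : Z ⟶ Z₁}
    {h₁ : Z₁ ⟶ X} {i₂ : Z ⟶ Z₂} {h₂ : Z₂ ⟶ X} (hu₁ : OmegaSh.IsUnivThickening h i₁ h₁)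
    (hu₂ : OmegaSh.IsUnivThickening h i₂ h₂) (g : Z₁ ⟶ Z₂) (hg1 : i₁ ≫ g = i₂)
    (hg2 : g ≫ h₂ = h₁) : IsIso g := by
  obtain ⟨g', ⟨hg'1, hg'2⟩, -⟩ := hu₁.2.2 Z Z₂ i₂ h₂ (𝟙 Z) hu₂.1
    (by rw [hu₂.2.1, Category.id_comp])
  rw [Category.id_comp] at hg'1
  refine ⟨g', ?_, ?_⟩
  · obtain ⟨γ, -, hγu⟩ := hu₁.2.2 Z Z₁ i₁ h₁ (𝟙 Z) hu₁.1 (by rw [hu₁.2.1, Category.id_comp])
    rw [hγu (g ≫ g') ⟨by rw [← Category.assoc, hg1, hg'1, Category.id_comp],
      by rw [Category.assoc, hg'2, hg2]⟩,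
      hγu (𝟙 _) ⟨by rw [Category.comp_id, Category.id_comp], Category.id_comp _⟩]
  · obtain ⟨γ, -, hγu⟩ := hu₂.2.2 Z Z₂ i₂ h₂ (𝟙 Z) hu₂.1 (by rw [hu₂.2.1, Category.id_comp])
    rw [hγu (g' ≫ g) ⟨by rw [← Category.assoc, hg'1, hg1, Category.id_comp],
      by rw [Category.assoc, hg2, hg'2]⟩,
      hγu (𝟙 _) ⟨by rw [Category.comp_id, Category.id_comp], Category.id_comp _⟩]

/-- restriction of a universal first order thickening to an open of the thickening. -/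
theorem isUnivThickening_restrict {Z Z' X : Scheme.{u}} {h : Z ⟶ X} {i : Z ⟶ Z'} {h' : Z' ⟶ X}
    (hu : OmegaSh.IsUnivThickening h i h') (V' : Z'.Opens) :
    OmegaSh.IsUnivThickening ((i ⁻¹ᵁ V').ι ≫ h) (i ∣_ V') (V'.ι ≫ h') := by
  have hih' : i ≫ h' = h := hu.2.1
  refine ⟨?_, ?_, ?_⟩
  · exact isFirstOrderThickening_of_isPullback (isPullback_morphismRestrict i V') hu.1
  · rw [morphismRestrict_ι_assoc, hih']
  · intro T T' t β α ht hw
    obtain ⟨γ, ⟨hγ1, hγ2⟩, hγu⟩ := hu.2.2 T T' t β (α ≫ (i ⁻¹ᵁ V').ι) ht (by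
      rw [hw, Category.assoc])
    have hrange : Set.range γ ⊆ Set.range V'.ι := by
      rw [Scheme.Opens.range_ι]
      rintro _ ⟨x', rfl⟩
      obtain ⟨x, rfl⟩ := ht.1.2.surj x'
      have h1 : γ (t x) = i ((i ⁻¹ᵁ V').ι (α x)) := by
        have := congrArg (fun φ : T ⟶ Z' => φ x) hγ1
        simpa using this
      rw [h1]
      exact (α x).2
    refine ⟨IsOpenImmersion.lift V'.ι γ hrange, ⟨?_, ?_⟩, ?_⟩
    · rw [← cancel_mono V'.ι, Category.assoc, IsOpenImmersion.lift_fac, Category.assoc,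
        morphismRestrict_ι, hγ1, Category.assoc]
    · rw [IsOpenImmersion.lift_fac_assoc, hγ2]
    · rintro γ'' ⟨h1, h2⟩
      rw [← cancel_mono V'.ι, IsOpenImmersion.lift_fac]
      apply hγu
      constructor
      · rw [← Category.assoc, h1, Category.assoc, morphismRestrict_ι, Category.assoc]
      · rw [Category.assoc, h2]

/-- the comparison map of universal thickenings along an open immersion is an open immersion. -/
theorem isOpenImmersion_of_isUnivThickening {W W' Z Z' X : Scheme.{u}} {h₁ : W ⟶ X}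
    {i₁ : W ⟶ W'} {h₁' : W' ⟶ X} {h : Z ⟶ X} {i : Z ⟶ Z'} {h' : Z' ⟶ X}
    (hu₁ : OmegaSh.IsUnivThickening h₁ i₁ h₁') (hu : OmegaSh.IsUnivThickening h i h')
    (j : W ⟶ Z) [IsOpenImmersion j] (hj : j ≫ h = h₁) (f : W' ⟶ Z') (hf1 : i₁ ≫ f = j ≫ i)
    (hf2 : f ≫ h' = h₁') : IsOpenImmersion f := by
  haveI : IsClosedImmersion i := hu.1.1.1
  obtain ⟨V', hV'⟩ := exists_opens_preimage_eq i j.opensRange
  have hres := isUnivThickening_restrict hu V'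
  let e : W ≅ ↑(i ⁻¹ᵁ V') := IsOpenImmersion.isoOfRangeEq j (i ⁻¹ᵁ V').ι (by
    rw [Scheme.Opens.range_ι, hV']; rfl)
  have he : e.hom ≫ (i ⁻¹ᵁ V').ι = j := IsOpenImmersion.isoOfRangeEq_hom_fac _ _ _
  have hu₂ : OmegaSh.IsUnivThickening h₁ (e.hom ≫ i ∣_ V') (V'.ι ≫ h') :=
    isUnivThickening_of_iso hres e (Iso.refl _) (Iso.refl _)
      (by rw [Iso.refl_hom, Category.comp_id, ← Category.assoc, he, hj])
      (by rw [Iso.refl_hom, Category.comp_id])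
      (by rw [Iso.refl_hom, Category.comp_id, Iso.refl_hom, Category.id_comp])
  obtain ⟨g, ⟨hg1, hg2⟩, -⟩ := hu₂.2.2 W W' i₁ h₁' (𝟙 W) hu₁.1
    (by rw [hu₁.2.1, Category.id_comp])
  rw [Category.id_comp] at hg1
  haveI : IsIso g := isIso_of_isUnivThickening hu₁ hu₂ g hg1 hg2
  have hfg : f = g ≫ V'.ι := by
    obtain ⟨γ, -, hγu⟩ := hu.2.2 W W' i₁ h₁' j hu₁.1 (by rw [hu₁.2.1, hj])
    rw [hγu f ⟨hf1, hf2⟩, hγu (g ≫ V'.ι) ⟨?_, ?_⟩]
    · rw [← Category.assoc, hg1, Category.assoc, morphismRestrict_ι, ← Category.assoc, he]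
    · rw [Category.assoc, hg2]
  rw [hfg]
  infer_instance

end Groth.Agent.H5.Thick
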